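import Groth.Agent.GabLocLib.Hull
import Groth.Prelude.Def_W4c5qcohlocdualityLoc

/-!
Closed objects and torsion for localizing classes in Grothendieck abelian categories.
-/

set_option autoImplicit false
set_option linter.style.haveILetI false
set_option backward.isDefEq.respectTransparency false

universe w v u

open CategoryTheory CategoryTheory.Limits

namespace Groth.Agent.GabLocLib

variable {C : Type u} [Category.{v} C] [Abelian C]

theorem le_locClosure (P : ObjectProperty C) : P ≤ GabLoc.locClosure.{w} P := fun X hX _ _ hPQ => hPQ X hX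

/-- Left orthogonal of an object. -/
def orth (E : C) : ObjectProperty C := fun X => ∀ f : X ⟶ E, f = 0

theorem isLocalizing_orth (E : C) [Injective E] : GabLoc.IsLocalizing.{w} (orth E) := by
  refine ⟨?_, fun J => ⟨fun X ⟨h⟩ f => ?_⟩⟩
  · haveI : (orth E).ContainsZero := ⟨_, isZero_zero C, fun f => (isZero_zero C).eq_of_src f 0⟩
    haveI : (orth E).IsClosedUnderSubobjects := ⟨fun {X Y} m _ hY f => by
      rw [← Injective.comp_factorThru f m, hY (Injective.factorThru f m), comp_zero]⟩
    haveI : (orth E).IsClosedUnderQuotients := ⟨fun {X Y} p _ hX f => by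
      rw [← cancel_epi p, hX (p ≫ f), comp_zero]⟩
    haveI : (orth E).IsClosedUnderExtensions := ⟨fun {S} hS h₁ h₃ f => by
      haveI := hS.epi_g
      rw [← hS.exact.g_desc f (h₁ _), h₃ (hS.exact.desc f (h₁ _)), comp_zero]⟩
    exact {}
  · exact h.isColimit.hom_ext fun j => (h.prop_diag_obj j _).trans comp_zero.symm

/-- Pairs of orthogonality conditions. -/
theorem isLocalizing_inf {Q S : ObjectProperty C} (hQ : GabLoc.IsLocalizing.{w} Q) (hS : GabLoc.IsLocalizing.{w} S) :
    GabLoc.IsLocalizing.{w} (Q ⊓ S) := by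
  haveI := hQ.isSerreClass; haveI := hS.isSerreClass
  refine ⟨?_, fun J => ⟨fun X ⟨h⟩ => ?_⟩⟩
  · haveI : (Q ⊓ S).ContainsZero := by
      obtain ⟨Z, hZ, h⟩ := (inferInstance : Q.ContainsZero).exists_zero
      obtain ⟨Z', hZ', h'⟩ := (inferInstance : S.ContainsZero).exists_zero
      exact ⟨Z, hZ, h, S.prop_of_iso (hZ'.iso hZ) h'⟩
    haveI : (Q ⊓ S).IsClosedUnderSubobjects := ⟨fun m _ h => ⟨Q.prop_of_mono m h.1, S.prop_of_mono m h.2⟩⟩
    haveI : (Q ⊓ S).IsClosedUnderQuotients := ⟨fun p _ h => ⟨Q.prop_of_epi p h.1, S.prop_of_epi p h.2⟩⟩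
    haveI : (Q ⊓ S).IsClosedUnderExtensions :=
      ⟨fun hX h₁ h₃ => ⟨Q.prop_X₂_of_shortExact hX h₁.1 h₃.1, S.prop_X₂_of_shortExact hX h₁.2 h₃.2⟩⟩
    exact {}
  · haveI := hQ.isClosedUnderCoproducts J; haveI := hS.isClosedUnderCoproducts J
    exact ⟨Q.prop_of_isColimit h.isColimit fun j => (h.prop_diag_obj j).1,
      S.prop_of_isColimit h.isColimit fun j => (h.prop_diag_obj j).2⟩

section

variable (P : ObjectProperty C) [P.IsClosedUnderSubobjects] [P.IsClosedUnderQuotients]

/-- An essential extension of a torsion-free object is torsion-free. -/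
theorem orth_of_essential {M E : C} {i : M ⟶ E} [Mono i] (hi : Essential i) (hM : P ≤ orth M) : P ≤ orth E := by
  intro Y hY f
  have hK : P (Abelian.image f) := P.prop_of_epi (Abelian.factorThruImage f) hY
  let m := Abelian.image.ι f
  let g := cokernel.π m
  haveI : Mono (i ≫ g) := Preadditive.mono_of_cancel_zero _ fun {Z} z hz => by
    have hz' : (z ≫ i) ≫ g = 0 := by rw [Category.assoc]; exact hz
    let w := Abelian.monoLift m (z ≫ i) hz'
    have h0 : pullback.fst i m = 0 := hM _ (P.prop_of_mono (pullback.snd i m) hK) _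
    rw [← pullback.lift_fst z w (Abelian.monoLift_comp m (z ≫ i) hz').symm, h0, comp_zero]
  haveI : Mono g := hi g inferInstance
  have : m = 0 := zero_of_comp_mono g (cokernel.condition m)
  rw [← Abelian.image.fac f, show Abelian.image.ι f = 0 from this, comp_zero]

variable [IsGrothendieckAbelian.{w} C]

/-- Closed objects for a class stable under subobjects and quotients are closed for its localizing closure. -/
theorem isClosedFor_locClosure {M : C} (hM : GabLoc.IsClosedFor P M) :
    GabLoc.IsClosedFor (GabLoc.locClosure.{w} P) M := by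
  obtain ⟨E, i, _, _, hi⟩ := exists_hull.{w} M
  obtain ⟨E', j, _, _, hj⟩ := exists_hull.{w} (cokernel i)
  have hPE : P ≤ orth E := orth_of_essential P hi fun Y hY f => hM.1 hY f
  have hPc : P ≤ orth (cokernel i) := fun Y hY f => by
    let π := cokernel.π i
    let N := pullback π f
    let a : M ⟶ N := pullback.lift i 0 (by simp [π])
    have hS : (ShortComplex.mk a (pullback.snd π f) (pullback.lift_snd _ _ _)).ShortExact := by
      haveI : Mono a := mono_of_mono_fac (pullback.lift_fst _ _ _)
      refine ⟨ShortComplex.exact_of_f_is_kernel _ (KernelFork.IsLimit.ofι' _ _ fun {A} z hz => ?_)⟩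
      have hz' : (z ≫ pullback.fst π f) ≫ π = 0 := by
        rw [Category.assoc, pullback.condition, ← Category.assoc]
        simp only at hz
        rw [hz, zero_comp]
      refine ⟨Abelian.monoLift i _ hz', ?_⟩
      apply pullback.hom_ext
      · simp [a, Abelian.monoLift_comp]
      · simp only at hz
        simp [a, hz]
    haveI := hM.2 a (pullback.snd π f) _ hY hS
    let sp := ShortComplex.Splitting.ofExactOfRetraction _ hS.exact (retraction a) (IsSplitMono.id a) hS.epi_g
    have hs : sp.s ≫ pullback.snd π f = 𝟙 Y := sp.s_g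
    have h0 : sp.s ≫ pullback.fst π f = 0 := hPE Y hY _
    calc f = sp.s ≫ pullback.snd π f ≫ f := by rw [← Category.assoc, hs, Category.id_comp]
      _ = (sp.s ≫ pullback.fst π f) ≫ π := by rw [Category.assoc, pullback.condition]
      _ = 0 := by rw [h0]; exact zero_comp
  have hPE' : P ≤ orth E' := orth_of_essential P hj hPc
  have key : GabLoc.locClosure.{w} P ≤ orth E ⊓ orth E' := fun X hX =>
    hX _ (isLocalizing_inf (isLocalizing_orth E) (isLocalizing_orth E')) fun Y hY => ⟨hPE Y hY, hPE' Y hY⟩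
  refine ⟨fun Y hY f => zero_of_comp_mono i ((key Y hY).1 (f ≫ i)), fun N Y a p hp hY hS => ?_⟩
  haveI := hS.mono_f; haveI := hS.epi_g
  let g := Injective.factorThru i a
  have hg : a ≫ g = i := Injective.comp_factorThru _ _
  have h1 : a ≫ g ≫ cokernel.π i = 0 := by rw [← Category.assoc, hg, cokernel.condition]
  have h2 : g ≫ cokernel.π i = 0 := by
    rw [← hS.exact.g_desc _ h1, show hS.exact.desc _ h1 = 0 from zero_of_comp_mono j ((key Y hY).2 _), comp_zero]
  exact ⟨⟨⟨Abelian.monoLift i g h2, by rw [← cancel_mono i, Category.assoc, Abelian.monoLift_comp, Category.id_comp]; exact hg⟩⟩⟩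

end

variable [IsGrothendieckAbelian.{w} C]

/-- An indecomposable injective is an essential extension of each of its nonzero subobjects. -/
theorem essential_of_indecomposable {E : C} [Injective E]
    (hind : ∀ (A B : C), Nonempty (E ≅ A ⊞ B) → IsZero A ∨ IsZero B) {A : C} (i : A ⟶ E) [Mono i] (h0 : i ≠ 0) :
    Essential i := by
  obtain ⟨E₁, k, m, _, _, hm, hkm, hk⟩ := exists_hull_in.{w} i
  let S : ShortComplex C := ShortComplex.mk m (cokernel.π m) (cokernel.condition m)
  have hS : S.Exact := ShortComplex.exact_of_g_is_cokernel _ (cokernelIsCokernel m)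
  let sp := ShortComplex.Splitting.ofExactOfRetraction S hS (retraction m) (IsSplitMono.id m) (inferInstanceAs (Epi (cokernel.π m)))
  rcases hind _ _ ⟨sp.isoBinaryBiproduct⟩ with h | h
  · exact absurd (by rw [← hkm, h.eq_of_src m 0, comp_zero]) h0
  · haveI : IsIso m := by
      haveI : Epi m := Preadditive.epi_of_cancel_zero _ fun z hz => by
        have e := congrArg (· ≫ z) sp.id
        have hz' : S.f ≫ z = 0 := hz
        simp only [Preadditive.add_comp, Category.assoc, hz', comp_zero, zero_add, Category.id_comp,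
          show S.g = 0 from h.eq_of_tgt _ _, zero_comp] at e
        exact e.symm
      exact isIso_of_mono_of_epi m
    rw [← hkm]
    exact hk.comp (essential_of_isIso m)

theorem hasTorsion_inf {E : C} [Injective E]
    (hind : ∀ (A B : C), Nonempty (E ≅ A ⊞ B) → IsZero A ∨ IsZero B)
    {S₁ S₂ : ObjectProperty C} [S₁.IsClosedUnderSubobjects] [S₁.IsClosedUnderQuotients]
    [S₂.IsClosedUnderSubobjects] [S₂.IsClosedUnderQuotients]
    (ht₁ : GabLoc.HasTorsion S₁ E) (ht₂ : GabLoc.HasTorsion S₂ E) : GabLoc.HasTorsion (S₁ ⊓ S₂) E := by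
  obtain ⟨Y₁, hY₁, f₁, hf₁⟩ := ht₁
  obtain ⟨Y₂, hY₂, f₂, hf₂⟩ := ht₂
  let i₁ := Abelian.image.ι f₁
  let i₂ := Abelian.image.ι f₂
  have h₁ : i₁ ≠ 0 := fun h => hf₁ (by rw [← Abelian.image.fac f₁, show Abelian.image.ι f₁ = 0 from h, comp_zero])
  have h₂ : i₂ ≠ 0 := fun h => hf₂ (by rw [← Abelian.image.fac f₂, show Abelian.image.ι f₂ = 0 from h, comp_zero])
  refine ⟨pullback i₁ i₂, ⟨S₁.prop_of_mono (pullback.fst i₁ i₂) (S₁.prop_of_epi (Abelian.factorThruImage f₁) hY₁),
    S₂.prop_of_mono (pullback.snd i₁ i₂) (S₂.prop_of_epi (Abelian.factorThruImage f₂) hY₂)⟩,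
    pullback.fst i₁ i₂ ≫ i₁, fun h => h₂ ?_⟩
  let g := cokernel.π i₂
  haveI : Mono (i₁ ≫ g) := Preadditive.mono_of_cancel_zero _ fun {Z} z hz => by
    have hz' : (z ≫ i₁) ≫ g = 0 := by rw [Category.assoc]; exact hz
    rw [← pullback.lift_fst z (Abelian.monoLift i₂ _ hz') (Abelian.monoLift_comp i₂ (z ≫ i₁) hz').symm,
      zero_of_comp_mono i₁ h, comp_zero]
  haveI : Mono g := essential_of_indecomposable hind i₁ h₁ g inferInstance
  exact zero_of_comp_mono g (cokernel.condition i₂)

end Groth.Agent.GabLocLib
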