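import Groth.Agent.GabLocLib.Closed

/-!
Transfinite filtrations of objects in a localizing closure.
-/

set_option autoImplicit false
set_option linter.style.haveILetI false
set_option backward.isDefEq.respectTransparency false

universe w v u

open CategoryTheory CategoryTheory.Limits

namespace Groth.Agent.GabLocLib

variable {C : Type u} [Category.{v} C] [Abelian C] [IsGrothendieckAbelian.{w} C]

theorem isZero_subquotCoprod (P : ObjectProperty C) {Z : C} (hZ : IsZero Z) : GabLoc.subquotCoprod.{w} P Z :=
  ⟨PEmpty.{w + 1}, fun j => j.elim, fun j => j.elim, Z, 0, 𝟙 Z,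
    ⟨fun a b _ => hZ.eq_of_tgt a b⟩, inferInstance⟩

theorem monoModSubquot_of_isIso (P : ObjectProperty C) {X Y : C} (f : X ⟶ Y) [IsIso f] :
    GabLoc.monoModSubquot.{w} P f :=
  ⟨inferInstance, isZero_subquotCoprod P (isZero_cokernel_of_epi f)⟩

theorem exists_larger (P : ObjectProperty C) {X : C} (hX : GabLoc.locClosure.{w} P X) (A : Subobject X) (hA : A ≠ ⊤) :
    ∃ (A' : Subobject X) (h : A < A'), GabLoc.monoModSubquot.{w} P (Subobject.ofLE A A' h.le) := by
  let π := cokernel.π A.arrow
  obtain ⟨E, j, _, _, hj⟩ := exists_hull.{w} (cokernel A.arrow)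
  obtain ⟨Y, hY, f, hf⟩ : ∃ Y, P Y ∧ ∃ f : Y ⟶ E, f ≠ 0 := by
    by_contra h
    push Not at h
    have h0 := hX _ (isLocalizing_orth E) (fun Y hY f => h Y hY f) (π ≫ j)
    have hπ : π = 0 := zero_of_comp_mono j h0
    haveI : Epi A.arrow := Preadditive.epi_of_cancel_zero _ fun z hz => by
      rw [← cokernel.π_desc A.arrow z hz, show cokernel.π A.arrow = 0 from hπ, zero_comp]
    haveI : IsIso A.arrow := isIso_of_mono_of_epi _
    exact hA ((Subobject.isIso_arrow_iff_eq_top A).1 inferInstance)
  let m := Abelian.image.ι f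
  let k := pullback.fst j m
  let s := pullback.snd j m
  have hk : k ≠ 0 := fun h0 => by
    let g := cokernel.π m
    haveI : Mono (j ≫ g) := Preadditive.mono_of_cancel_zero _ fun {Z} z hz => by
      have hz' : (z ≫ j) ≫ g = 0 := by rw [Category.assoc]; exact hz
      rw [← pullback.lift_fst z (Abelian.monoLift m _ hz') (Abelian.monoLift_comp m (z ≫ j) hz').symm,
        show pullback.fst j m = 0 from h0, comp_zero]
    haveI : Mono g := hj g inferInstance
    exact hf (by rw [← Abelian.image.fac f, show Abelian.image.ι f = 0 from zero_of_comp_mono g (cokernel.condition m),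
      comp_zero])
  let q := Abelian.factorThruImage f
  have hsub : GabLoc.subquotCoprod.{w} P (pullback j m) :=
    ⟨PUnit.{w + 1}, fun _ => Y, fun _ => hY, pullback q s,
      pullback.fst q s ≫ Sigma.ι (fun _ : PUnit.{w + 1} => Y) PUnit.unit, pullback.snd q s, mono_comp _ _, inferInstance⟩
  let p := pullback.fst π k
  let a₀ : (A : C) ⟶ pullback π k := pullback.lift A.arrow 0 (by simp [π])
  have ha₀ : a₀ ≫ p = A.arrow := pullback.lift_fst _ _ _
  haveI : Mono a₀ := mono_of_mono_fac ha₀
  haveI : Mono p := inferInstanceAs (Mono (pullback.fst π k))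
  have hS : (ShortComplex.mk a₀ (pullback.snd π k) (pullback.lift_snd _ _ _)).ShortExact := by
    refine ⟨ShortComplex.exact_of_f_is_kernel _ (KernelFork.IsLimit.ofι' _ _ fun {Z} z hz => ?_)⟩
    simp only at hz
    have hz' : (z ≫ p) ≫ π = 0 := by
      rw [Category.assoc, pullback.condition, ← Category.assoc, hz]; exact zero_comp
    refine ⟨Abelian.monoLift A.arrow _ hz', ?_⟩
    apply pullback.hom_ext
    · simp [a₀, p, Abelian.monoLift_comp]
    · simp [a₀, hz]
  have hle : A ≤ Subobject.mk p := Subobject.le_mk_of_comm a₀ ha₀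
  have hne : A ≠ Subobject.mk p := fun h => by
    haveI : IsIso a₀ := by
      have : a₀ = (Subobject.isoOfEq A _ h ≪≫ Subobject.underlyingIso p).hom := by
        rw [← cancel_mono p, ha₀]; simp
      rw [this]; infer_instance
    haveI := hS.epi_g
    have : pullback.snd π k = 0 := (cancel_epi a₀).1 (by rw [comp_zero]; exact pullback.lift_snd _ _ _)
    exact hk (zero_of_epi_comp (pullback.snd π k) (by rw [this, zero_comp]))
  refine ⟨Subobject.mk p, lt_of_le_of_ne hle hne, inferInstance, ?_⟩
  have hofLE : Subobject.ofLE A (Subobject.mk p) hle = a₀ ≫ (Subobject.underlyingIso p).inv := by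
    rw [← cancel_mono (Subobject.mk p).arrow, Category.assoc, Subobject.underlyingIso_arrow, ha₀, Subobject.ofLE_arrow]
  let e : pullback j m ≅ cokernel (Subobject.ofLE A (Subobject.mk p) hle) :=
    hS.gIsCokernel.coconePointUniqueUpToIso (cokernelIsCokernel a₀) ≪≫
      (cokernelCompIsIso a₀ (Subobject.underlyingIso p).inv).symm ≪≫ cokernelIsoOfEq hofLE.symm
  obtain ⟨J, Z, hZ, B, i, r, hi, hr⟩ := hsub
  exact ⟨J, Z, hZ, B, i, r ≫ e.hom, hi, epi_comp _ _⟩

section

variable {X : C} (L : Subobject X → Subobject X) (hL : ∀ A, A ≤ L A) (A₀ : Subobject X)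
  (J : Type w) [LinearOrder J] [OrderBot J] [SuccOrder J] [WellFoundedLT J]

/-- The transfinite iteration of an increasing map on subobjects. -/
@[simps]
noncomputable def iterFunctor : J ⥤ MonoOver X where
  obj j := MonoOver.mk (transfiniteIterate L j A₀).arrow
  map {j j'} f := MonoOver.homMk (Subobject.ofLE _ _ (monotone_transfiniteIterate _ _ hL (leOfHom f)))

set_option backward.defeqAttrib.useBackward true in
theorem iterFunctor_continuous :
    (iterFunctor L hL A₀ J ⋙ MonoOver.forget _ ⋙ Over.forget _).IsWellOrderContinuous where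
  nonempty_isColimit m hm := ⟨by
    have := hm.nonempty_Iio.to_subtype
    let c := (Set.principalSegIio m).cocone (iterFunctor L hL A₀ J ⋙ MonoOver.forget _)
    have : Mono c.pt.hom := by dsimp [c]; infer_instance
    apply IsGrothendieckAbelian.isColimitMapCoconeOfSubobjectMkEqISup
      ((Set.principalSegIio m).monotone.functor ⋙ iterFunctor L hL A₀ J) c
    dsimp [c]
    simp only [Subobject.mk_arrow]
    exact transfiniteIterate_limit L A₀ m hm⟩

variable {J} (P : ObjectProperty C)
  (hW : ∀ A, GabLoc.monoModSubquot.{w} P (Subobject.ofLE A (L A) (hL A)))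

set_option backward.isDefEq.respectTransparency.types false in
set_option backward.defeqAttrib.useBackward true in
/-- The iteration is a transfinite composition. -/
noncomputable def iterComposition (j : J) :
    (GabLoc.monoModSubquot.{w} P).TransfiniteCompositionOfShape (Set.Iic j)
      ((iterFunctor L hL A₀ J ⋙ MonoOver.forget _ ⋙ Over.forget _).map (homOfLE bot_le : ⊥ ⟶ j)) :=
  haveI := iterFunctor_continuous L hL A₀ J
  { F := (Set.initialSegIic j).monotone.functor ⋙ iterFunctor L hL A₀ J ⋙ MonoOver.forget _ ⋙ Over.forget _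
    isoBot := Iso.refl _
    incl :=
      { app := fun k => (iterFunctor L hL A₀ J ⋙ MonoOver.forget _ ⋙ Over.forget _).map (homOfLE k.2)
        naturality := fun k k' h => by simp [MonoOver.forget] }
    isColimit := colimitOfDiagramTerminal isTerminalTop _
    map_mem := fun k hk => by
      dsimp [MonoOver.forget]
      convert! hW (transfiniteIterate L k.1 A₀) using 2
      all_goals
        rw [Set.Iic.succ_eq_of_not_isMax hk, transfiniteIterate_succ _ _ _ (Set.not_isMax_coe _ hk)] }

end

theorem transfiniteCompositions_of_locClosure (P : ObjectProperty C) {X A₀ : C} (hX : GabLoc.locClosure.{w} P X)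
    (f : A₀ ⟶ X) [Mono f] : MorphismProperty.transfiniteCompositions.{w} (GabLoc.monoModSubquot.{w} P) f := by
  classical
  let L : Subobject X → Subobject X := fun A => if hA : A = ⊤ then ⊤ else (exists_larger P hX A hA).choose
  have hlt : ∀ A, A ≠ ⊤ → A < L A := fun A hA => by
    simp only [L, dif_neg hA]; exact (exists_larger P hX A hA).choose_spec.choose
  have hL : ∀ A, A ≤ L A := fun A => by
    by_cases hA : A = ⊤
    · simp [L, hA]
    · exact (hlt A hA).le
  have hW : ∀ A, GabLoc.monoModSubquot.{w} P (Subobject.ofLE A (L A) (hL A)) := fun A => by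
    by_cases hA : A = ⊤
    · have h : L A = A := by simp [L, hA]
      haveI : IsIso (Subobject.ofLE A (L A) (hL A)) :=
        ⟨Subobject.ofLE (L A) A h.le, by simp, by simp⟩
      exact monoModSubquot_of_isIso P _
    · have h := (exists_larger P hX A hA).choose_spec.choose_spec
      have e : (exists_larger P hX A hA).choose = L A := by simp [L, dif_neg hA]
      convert! h using 2 <;> rw [← e]
  let κ := Order.succ (Cardinal.mk (Shrink.{w} (Subobject X)))
  let J := κ.ord.ToType
  haveI : Nonempty J := by simp [J, κ]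
  letI : OrderBot J := WellFoundedLT.toOrderBot _
  have hJ : HasCardinalLT (Subobject X) (Cardinal.mk J) := lt_of_lt_of_le (Order.lt_succ _) (by simp [J, κ])
  obtain ⟨j, hj⟩ : ∃ j : J, transfiniteIterate L j (Subobject.mk f) = ⊤ :=
    top_mem_range_transfiniteIterate L (Subobject.mk f) hlt (by simp [L])
      (fun h => by simpa [hasCardinalLT_iff_cardinal_mk_lt] using hJ.of_injective _ h)
  let T := iterComposition L hL (Subobject.mk f) P hW j
  haveI := (Subobject.isIso_arrow_iff_eq_top (transfiniteIterate L j (Subobject.mk f))).2 hj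
  rw [MorphismProperty.transfiniteCompositions_iff]
  refine ⟨Set.Iic j, inferInstance, inferInstance, inferInstance, inferInstance, ⟨T.ofArrowIso ?_⟩⟩
  refine Arrow.isoMk (Subobject.isoOfEq _ _ (transfiniteIterate_bot _ _) ≪≫ Subobject.underlyingIso f)
    (asIso (transfiniteIterate L j (Subobject.mk f)).arrow) ?_
  change ((Subobject.isoOfEq _ _ (transfiniteIterate_bot L (Subobject.mk f))).hom ≫ (Subobject.underlyingIso f).hom) ≫ f =
    Subobject.ofLE (transfiniteIterate L ⊥ (Subobject.mk f)) (transfiniteIterate L j (Subobject.mk f))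
      (monotone_transfiniteIterate L _ hL bot_le) ≫ (transfiniteIterate L j (Subobject.mk f)).arrow
  simp only [Category.assoc, Subobject.underlyingIso_hom_comp_eq_mk, Subobject.ofLE_arrow, Subobject.isoOfEq_hom]

theorem prop_of_colimit {Q : ObjectProperty C} (hQ : GabLoc.IsLocalizing.{w} Q) {J : Type w} [Preorder J]
    {K : J ⥤ C} {c : Cocone K} (hc : IsColimit c) (h : ∀ j, Q (K.obj j)) : Q c.pt := by
  haveI := hQ.isSerreClass; haveI := hQ.isClosedUnderCoproducts J
  haveI : Epi (Sigma.desc c.ι.app) := ⟨fun g g' hg => hc.hom_ext fun j => by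
    simpa using congrArg (Sigma.ι K.obj j ≫ ·) hg⟩
  exact Q.prop_of_epi (Sigma.desc c.ι.app) (Q.prop_colimit (Discrete.functor K.obj) fun j => h j.as)

theorem prop_of_subquotCoprod {Q : ObjectProperty C} (hQ : GabLoc.IsLocalizing.{w} Q) {P : ObjectProperty C}
    (hPQ : P ≤ Q) {A : C} (hA : GabLoc.subquotCoprod.{w} P A) : Q A := by
  obtain ⟨J, Z, hZ, B, i, p, _, _⟩ := hA
  haveI := hQ.isSerreClass; haveI := hQ.isClosedUnderCoproducts J
  exact Q.prop_of_epi p (Q.prop_of_mono i (Q.prop_colimit (Discrete.functor Z) fun j => hPQ _ (hZ j.as)))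

theorem locClosure_of_transfiniteCompositions (P : ObjectProperty C) {X A₀ : C} (hA₀ : IsZero A₀) (f : A₀ ⟶ X)
    (h : MorphismProperty.transfiniteCompositions.{w} (GabLoc.monoModSubquot.{w} P) f) :
    GabLoc.locClosure.{w} P X := by
  intro Q hQ hPQ
  rw [MorphismProperty.transfiniteCompositions_iff] at h
  obtain ⟨J, _, _, _, _, ⟨T⟩⟩ := h
  haveI := hQ.isSerreClass
  have hall : ∀ j, Q (T.F.obj j) := by
    intro j
    induction j using SuccOrder.limitRecOn with
    | isMin j hj =>
      obtain rfl := hj.eq_bot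
      exact Q.prop_of_iso T.isoBot.symm (Q.prop_of_isZero hA₀)
    | succ j hj ih =>
      obtain ⟨hm, hc⟩ := T.map_mem j hj
      exact Q.prop_X₂_of_shortExact (S := ShortComplex.mk (T.F.map (homOfLE (Order.le_succ j))) (cokernel.π _)
        (cokernel.condition _)) ⟨ShortComplex.exact_of_g_is_cokernel _ (cokernelIsCokernel _)⟩ ih
        (prop_of_subquotCoprod hQ hPQ hc)
    | isSuccLimit j hj ih =>
      exact prop_of_colimit hQ (T.F.isColimitOfIsWellOrderContinuous j hj) fun k => ih k.1 k.2
  exact prop_of_colimit hQ T.isColimit hall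

end Groth.Agent.GabLocLib
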