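import Mathlib.CategoryTheory.Abelian.GrothendieckCategory.EnoughInjectives
import Mathlib.CategoryTheory.Abelian.GrothendieckCategory.Subobject
import Mathlib.CategoryTheory.Preadditive.Injective.Basic
import Mathlib.Order.Zorn

/-!
Essential monomorphisms and injective hulls in Grothendieck abelian categories.
-/

set_option autoImplicit false
set_option linter.style.haveILetI false
set_option backward.isDefEq.respectTransparency false

universe w v u

open CategoryTheory CategoryTheory.Limits

namespace Groth.Agent.GabLocLib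

variable {C : Type u} [Category.{v} C]

/-- A morphism is essential when any morphism which is mono on it is mono. -/
def Essential {X Y : C} (i : X ⟶ Y) : Prop := ∀ ⦃Z : C⦄ (g : Y ⟶ Z), Mono (i ≫ g) → Mono g

theorem Essential.comp {X Y Z : C} {i : X ⟶ Y} {j : Y ⟶ Z} (hi : Essential i) (hj : Essential j) :
    Essential (i ≫ j) := fun _ g h => hj g (hi (j ≫ g) (by simpa using h))

theorem essential_of_isIso {X Y : C} (i : X ⟶ Y) [IsIso i] : Essential i := fun _ g h => by
  have : g = inv i ≫ (i ≫ g) := by simp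
  rw [this]; exact mono_comp _ _

variable [Abelian C] [IsGrothendieckAbelian.{w} C]

attribute [local instance] IsFiltered.isConnected

/-- Upper bound of a directed family of subobjects, on which monomorphisms are detected. -/
theorem exists_directed_sup {I : C} (s : Set (Subobject I)) (hne : s.Nonempty) (hdir : DirectedOn (· ≤ ·) s) :
    ∃ (T : Subobject I) (hT : ∀ A ∈ s, A ≤ T), ∀ ⦃Y : C⦄ (g : (T : C) ⟶ Y),
      (∀ (A : Subobject I) (hA : A ∈ s), Mono (Subobject.ofLE A T (hT A hA) ≫ g)) → Mono g := by
  let J : Type w := Σ' (_ : PUnit.{w + 1}), Shrink.{w} s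
  let e : J ≃ s :=
    { toFun := fun j => (equivShrink s).symm j.2
      invFun := fun x => ⟨PUnit.unit, equivShrink s x⟩
      left_inv := fun j => by rcases j with ⟨⟨⟩, x⟩; simp
      right_inv := fun x => by simp }
  letI : Preorder J := Preorder.lift fun j => (e j).1
  haveI : Nonempty J := ⟨e.symm ⟨_, hne.choose_spec⟩⟩
  haveI : IsDirectedOrder J := ⟨fun a b => by
    obtain ⟨c, hc, hac, hbc⟩ := hdir _ (e a).2 _ (e b).2
    exact ⟨e.symm ⟨c, hc⟩, show (e a).1 ≤ (e (e.symm ⟨c, hc⟩)).1 by rwa [e.apply_symm_apply],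
      show (e b).1 ≤ (e (e.symm ⟨c, hc⟩)).1 by rwa [e.apply_symm_apply]⟩⟩
  haveI : IsFiltered J := isFiltered_of_directed_le_nonempty J
  let F : J ⥤ MonoOver I :=
    { obj := fun j => MonoOver.mk (e j).1.arrow
      map := fun {a b} h => MonoOver.homMk (Subobject.ofLE (e a).1 (e b).1 (show (e a).1 ≤ (e b).1 from leOfHom (X := J) h)) }
  let K : J ⥤ C := F ⋙ MonoOver.forget _ ⋙ Over.forget _
  let f : colimit K ⟶ I := colimit.desc K
    (Cocone.mk I { app := fun j => (e j).1.arrow, naturality := fun a b h => by simp [K, F, MonoOver.forget] })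
  have hf : ∀ j, colimit.ι K j ≫ f = (e j).1.arrow := fun j => colimit.ι_desc _ _
  haveI : Mono f := IsGrothendieckAbelian.mono_of_isColimit_monoOver F (colimit.isColimit K) f hf
  have hle : ∀ j, (e j).1 ≤ Subobject.mk f := fun j =>
    Subobject.le_mk_of_comm (colimit.ι K j) (hf j)
  have hT : ∀ A ∈ s, A ≤ Subobject.mk f := fun A hA => by
    have := hle (e.symm ⟨A, hA⟩); rwa [e.apply_symm_apply] at this
  refine ⟨Subobject.mk f, hT, fun Y g hg => ?_⟩
  let g' : colimit K ⟶ Y := (Subobject.underlyingIso f).inv ≫ g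
  suffices Mono g' by
    have : g = (Subobject.underlyingIso f).hom ≫ g' := by simp [g']
    rw [this]; exact mono_comp _ _
  let α : K ⟶ (Functor.const _).obj Y :=
    { app := fun j => colimit.ι K j ≫ g'
      naturality := fun a b h => by simp }
  haveI : ∀ j, Mono (α.app j) := fun j => by
    have heq : colimit.ι K j ≫ g' = Subobject.ofLE (e j).1 (Subobject.mk f) (hT _ (e j).2) ≫ g := by
      change colimit.ι K j ≫ (Subobject.underlyingIso f).inv ≫ g = _
      rw [← Category.assoc]
      congr 1
      rw [← cancel_mono (Subobject.mk f).arrow, Category.assoc, Subobject.underlyingIso_arrow, hf,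
        Subobject.ofLE_arrow]
    change Mono (colimit.ι K j ≫ g')
    rw [heq]; exact hg _ (e j).2
  haveI := NatTrans.mono_of_mono_app α
  exact colim.map_mono' α (colimit.isColimit K) (isColimitConstCocone J Y) g' (fun j => by simp [α])

/-- An injective object contains an injective hull of each of its subobjects. -/
theorem exists_hull_in {M I : C} [Injective I] (i : M ⟶ I) [Mono i] :
    ∃ (E : C) (k : M ⟶ E) (m : E ⟶ I), Injective E ∧ Mono k ∧ IsSplitMono m ∧ k ≫ m = i ∧ Essential k := by
  -- a maximal essential extension inside `I`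
  obtain ⟨A, ⟨k, hk, hkess⟩, hAmax⟩ :=
    zorn_le₀ {A : Subobject I | ∃ k : M ⟶ (A : C), k ≫ A.arrow = i ∧ Essential k} (fun c hc hchain => by
      rcases c.eq_empty_or_nonempty with rfl | hne
      · exact ⟨Subobject.mk i, ⟨(Subobject.underlyingIso i).inv, Subobject.underlyingIso_arrow i,
          essential_of_isIso _⟩, fun z hz => hz.elim⟩
      obtain ⟨T, hT, hmono⟩ := exists_directed_sup c hne hchain.directedOn
      obtain ⟨k₀, hk₀, -⟩ := hc hne.choose_spec
      refine ⟨T, ⟨k₀ ≫ Subobject.ofLE _ T (hT _ hne.choose_spec), by simpa using hk₀, fun Y g hg => hmono g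
        fun B hB => ?_⟩, hT⟩
      obtain ⟨kB, hkB, hBess⟩ := hc hB
      refine hBess _ ?_
      have : kB ≫ Subobject.ofLE B T (hT B hB) = k₀ ≫ Subobject.ofLE _ T (hT _ hne.choose_spec) := by
        rw [← cancel_mono T.arrow]; simp [hkB, hk₀]
      rwa [← Category.assoc, this])
  haveI : Mono k := mono_of_mono_fac hk
  -- a maximal complement
  let πA := cokernel.π A.arrow
  obtain ⟨N, hN, hNmax⟩ := zorn_le₀ {N : Subobject I | Mono (N.arrow ≫ πA)} (fun c hc hchain => by
      rcases c.eq_empty_or_nonempty with rfl | hne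
      · refine ⟨⊥, Preadditive.mono_of_cancel_zero _ fun z _ => ?_, fun z hz => hz.elim⟩
        exact (isZero_zero C).eq_of_tgt (z ≫ Subobject.botCoeIsoZero.hom) 0 |> fun h => by
          rw [← cancel_mono Subobject.botCoeIsoZero.hom, h, zero_comp]
      obtain ⟨T, hT, hmono⟩ := exists_directed_sup c hne hchain.directedOn
      refine ⟨T, hmono _ fun B hB => ?_, hT⟩
      simpa using hc hB)
  haveI : Mono (N.arrow ≫ πA) := hN
  let πN := cokernel.π N.arrow
  let e' := A.arrow ≫ πN
  haveI : Mono e' := Preadditive.mono_of_cancel_zero _ fun z hz => by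
    have hz' : (z ≫ A.arrow) ≫ πN = 0 := by rw [Category.assoc]; exact hz
    have hy : Abelian.monoLift N.arrow (z ≫ A.arrow) hz' ≫ (N.arrow ≫ πA) = 0 := by
      rw [← Category.assoc, Abelian.monoLift_comp, Category.assoc, cokernel.condition, comp_zero]
    rw [← cancel_mono A.arrow, ← Abelian.monoLift_comp N.arrow (z ≫ A.arrow) hz', zero_of_comp_mono _ hy,
      zero_comp, zero_comp]
  have hess : Essential e' := fun Y g hg => by
    let N' := kernelSubobject (πN ≫ g)
    have hle : N ≤ N' := le_kernelSubobject _ _ (by rw [cokernel.condition_assoc, zero_comp])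
    have hN' : Mono (N'.arrow ≫ πA) := Preadditive.mono_of_cancel_zero _ fun z hz => by
      have hz' : (z ≫ N'.arrow) ≫ πA = 0 := by rw [Category.assoc]; exact hz
      have hw : Abelian.monoLift A.arrow (z ≫ N'.arrow) hz' ≫ (e' ≫ g) = 0 := by
        simp only [e', ← Category.assoc, Abelian.monoLift_comp]
        simp [N', kernelSubobject_arrow_comp]
      rw [← cancel_mono N'.arrow, ← Abelian.monoLift_comp A.arrow (z ≫ N'.arrow) hz', zero_of_comp_mono _ hw,
        zero_comp, zero_comp]
    have hle' : N' ≤ N := hNmax hN' hle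
    refine Preadditive.mono_of_cancel_zero _ fun {Z} z hz => ?_
    let p₁ := pullback.fst πN z
    have h1 : p₁ ≫ πN ≫ g = 0 := by
      rw [← Category.assoc, pullback.condition, Category.assoc, hz, comp_zero]
    have h2 : p₁ ≫ πN = 0 := by
      rw [← factorThruKernelSubobject_comp_arrow (πN ≫ g) p₁ h1, ← Subobject.ofLE_arrow hle', Category.assoc,
        Category.assoc, cokernel.condition, comp_zero, comp_zero]
    rw [← cancel_epi (pullback.snd πN z), ← pullback.condition, comp_zero]
    exact h2
  let g := Injective.factorThru A.arrow e'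
  have hg : e' ≫ g = A.arrow := Injective.comp_factorThru _ _
  haveI : Mono g := hess g (by rw [hg]; infer_instance)
  have hAle : A ≤ Subobject.mk g := Subobject.le_mk_of_comm e' hg
  have hle : Subobject.mk g ≤ A := hAmax ⟨k ≫ e' ≫ (Subobject.underlyingIso g).inv, by simp [hg, hk],
    hkess.comp (hess.comp (essential_of_isIso _))⟩ hAle
  let h := Subobject.ofLE _ _ hle
  let r := πN ≫ (Subobject.underlyingIso g).inv ≫ h
  have hr : A.arrow ≫ r = 𝟙 _ := by
    rw [← cancel_mono A.arrow]
    simp only [r, h, Category.assoc, Subobject.ofLE_arrow, Subobject.underlyingIso_arrow, Category.id_comp]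
    rw [← Category.assoc]; exact hg
  exact ⟨(A : C), k, A.arrow, Retract.injective ⟨A.arrow, r, hr⟩, inferInstance, ⟨⟨⟨r, hr⟩⟩⟩, hk, hkess⟩

theorem exists_hull (M : C) : ∃ (E : C) (k : M ⟶ E), Injective E ∧ Mono k ∧ Essential k := by
  obtain ⟨E, k, _, h1, h2, -, -, h3⟩ := exists_hull_in.{w} (Injective.ι M)
  exact ⟨E, k, h1, h2, h3⟩

end Groth.Agent.GabLocLib
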